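import Cfsg.Agent.S4160
import Cfsg.Agent.H6.CSGraph

set_option autoImplicit false
set_option linter.unusedSectionVars false

namespace Cfsg.Agent.CG

open Subgroup Cfsg.Agent.H83

variable {G : Type*} [Group G] [Finite G]

/-- `N(P) = C(P)` for all Sylow `p`-subgroups `P`. -/
def Ab (G : Type*) [Group G] (p : ℕ) : Prop :=
  ∀ P : Sylow p G, normalizer ((P : Subgroup G) : Set G) ≤ centralizer ((P : Subgroup G) : Set G)

theorem two_mul_le {p : ℕ} [Fact p.Prime] (P : Sylow p G)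
    (h : ¬ normalizer ((P : Subgroup G) : Set G) ≤ centralizer ((P : Subgroup G) : Set G)) :
    2 * Set.ncard {x : G | x ≠ 1 ∧ ∃ g : G, g * x * g⁻¹ ∈ centralizer ((P : Subgroup G) : Set G)} + 2
      ≤ Nat.card G := by
  have h1 := S4160.ncard_le (centralizer ((P : Subgroup G) : Set G))
    (normalizer ((P : Subgroup G) : Set G)) (H21.normalizer_le_normalizer_centralizer _)
  have hle : centralizer ((P : Subgroup G) : Set G) ≤ normalizer ((P : Subgroup G) : Set G) :=
    centralizer_le_normalizer _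
  have h2 : (centralizer ((P : Subgroup G) : Set G)).relIndex
      (normalizer ((P : Subgroup G) : Set G)) ≠ 1 := by
    rw [Ne, relIndex_eq_one]
    exact h
  have h3 := H21.relIndex_ne_zero' (centralizer ((P : Subgroup G) : Set G))
    (normalizer ((P : Subgroup G) : Set G))
  have h4 := H21.card_mul_relIndex_of_le hle
  have h5 := (normalizer ((P : Subgroup G) : Set G)).card_mul_index
  have h6 : (normalizer ((P : Subgroup G) : Set G)).index ≠ 0 := index_ne_zero_of_finite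
  set a := (centralizer ((P : Subgroup G) : Set G)).relIndex (normalizer ((P : Subgroup G) : Set G))
  set b := (normalizer ((P : Subgroup G) : Set G)).index
  set c := Nat.card (centralizer ((P : Subgroup G) : Set G))
  rw [← h5, ← h4]
  have : 2 ≤ a := by omega
  have h7 : 2 * (b * c) ≤ c * a * b := by nlinarith [Nat.zero_le (b * c)]
  omega

/-- Ito's count. -/
theorem ito {p q : ℕ} (hp : p.Prime) (hq : q.Prime) (hpq : p ≠ q) (h : ∀ x : G, ¬ p * q ∣ cs(x)) :
    Ab G p ∨ Ab G q := by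
  have := Fact.mk hp
  have := Fact.mk hq
  by_contra hc
  rw [not_or] at hc
  obtain ⟨P, hP⟩ := not_forall.1 hc.1
  obtain ⟨Q, hQ⟩ := not_forall.1 hc.2
  have h1 := two_mul_le P hP
  have h2 := two_mul_le Q hQ
  have h3 : (Set.univ : Set G) ⊆ insert 1
      ({x : G | x ≠ 1 ∧ ∃ g : G, g * x * g⁻¹ ∈ centralizer ((P : Subgroup G) : Set G)} ∪
      {x : G | x ≠ 1 ∧ ∃ g : G, g * x * g⁻¹ ∈ centralizer ((Q : Subgroup G) : Set G)}) := by
    intro x _
    by_cases hx : x = 1
    · exact Or.inl hx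
    · right
      by_cases hd : p ∣ cs(x)
      · exact Or.inr ⟨hx, H8.exists_conj_mem_cent_sylow Q fun hd' =>
          h x (Nat.Coprime.mul_dvd_of_dvd_of_dvd ((Nat.coprime_primes hp hq).2 hpq) hd hd')⟩
      · exact Or.inl ⟨hx, H8.exists_conj_mem_cent_sylow P hd⟩
  have h4 := (Set.ncard_le_ncard h3).trans
    ((Set.ncard_insert_le _ _).trans (Nat.add_le_add_right (Set.ncard_union_le _ _) 1))
  rw [Set.ncard_univ] at h4
  omega

variable {p : ℕ} [hp : Fact p.Prime]

theorem Ab.comm (h : Ab G p) (P : Sylow p G) {a b : G} (ha : a ∈ (P : Subgroup G))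
    (hb : b ∈ (P : Subgroup G)) : a * b = b * a :=
  h P (le_normalizer hb) a ha

theorem Ab.not_dvd_comm (h : Ab G p) : ¬ p ∣ Nat.card (commutator G) := by
  obtain ⟨P⟩ : Nonempty (Sylow p G) := inferInstance
  refine fun hd => MonoidHom.not_dvd_card_ker_transferSylow P (h P) (hd.trans (card_dvd_of_le ?_))
  rw [commutator_def, commutator_le]
  intro a _ b _
  rw [MonoidHom.mem_ker, map_commutatorElement, commutatorElement_eq_one_iff_mul_comm]
  exact Subtype.ext (h.comm P (Subtype.prop _) (Subtype.prop _))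

theorem not_dvd_of_mem (P : Sylow p G) {x : G} (hx : x ∈ centralizer ((P : Subgroup G) : Set G)) :
    ¬ p ∣ cs(x) :=
  not_dvd_index_iff.2 ⟨P, fun y hy => mem_cent.2 (hx y hy)⟩

theorem Ab.not_dvd_cs (h : Ab G p) (P : Sylow p G) {y : G} (hy : y ∈ (P : Subgroup G)) :
    ¬ p ∣ cs(y) :=
  not_dvd_of_mem P (h P (le_normalizer hy))

theorem frat (P : Sylow p G) (N : Subgroup G) (hN : (N ⊔ (P : Subgroup G)).Normal) :
    normalizer ((P : Subgroup G) : Set G) ⊔ N = ⊤ := by
  have h := P.normalizer_sup_eq_top' (N := N ⊔ (P : Subgroup G)) le_sup_right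
  rw [eq_top_iff, ← h]
  exact sup_le le_sup_left (sup_le le_sup_right (le_sup_of_le_left le_normalizer))

theorem Ab.conj_in (h : Ab G p) (P : Sylow p G) (N : Subgroup G) [N.Normal]
    (hN : (N ⊔ (P : Subgroup G)).Normal) {v : G} (hv : ¬ p ∣ cs(v)) :
    ∃ n ∈ N, n * v * n⁻¹ ∈ centralizer ((P : Subgroup G) : Set G) := by
  obtain ⟨g, hg⟩ := H8.exists_conj_mem_cent_sylow P hv
  have hg' : g ∈ normalizer ((P : Subgroup G) : Set G) ⊔ N := frat P N hN ▸ mem_top g
  obtain ⟨m, hm, n, hn, rfl⟩ := mem_sup_of_normal_right.1 hg'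
  refine ⟨n, hn, ?_⟩
  have hm' := h P hm
  have := mul_mem (mul_mem (inv_mem hm') hg) hm'
  convert this using 1
  group

theorem Ab.not_le (h : Ab G p) (hv : ∃ x : G, p ∣ cs(x)) (P : Sylow p G) (N : Subgroup G)
    (hN : (N ⊔ (P : Subgroup G)).Normal) : ¬ N ≤ centralizer ((P : Subgroup G) : Set G) := by
  intro hle
  obtain ⟨x, hx⟩ := hv
  have : x ∈ normalizer ((P : Subgroup G) : Set G) ⊔ N := frat P N hN ▸ mem_top x
  exact not_dvd_of_mem P (sup_le (h P) hle this) hx

theorem Ab.exists_der (h : Ab G p) (hv : ∃ x : G, p ∣ cs(x)) (P : Sylow p G) (N : Subgroup G)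
    [N.Normal] (hN : (N ⊔ (P : Subgroup G)).Normal) : ∃ v ∈ N, p ∣ cs(v) := by
  by_contra hc
  push Not at hc
  refine h.not_le hv P N hN ?_
  rw [← subgroupOf_eq_top]
  refine eq_top_of_forall_conj_mem fun x => ?_
  obtain ⟨n, hn, h1⟩ := h.conj_in P N hN (hc x x.2)
  exact ⟨⟨n, hn⟩, h1⟩

theorem comm_sup_normal (P : Subgroup G) : (commutator G ⊔ P).Normal :=
  Normal.of_commutator_le G le_sup_left

/-- A vertex `p` with `N(P) = C(P)` is adjacent to a prime dividing `|G'|`, if `G'` is not abelian. -/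
theorem Ab.exists_nb (h : Ab G p) (hv : ∃ x : G, p ∣ cs(x)) (hG : center (commutator G) ≠ ⊤) :
    ∃ r : ℕ, r.Prime ∧ r ∣ Nat.card (commutator G) ∧ ∃ x : G, p ∣ cs(x) ∧ r ∣ cs(x) := by
  obtain ⟨P⟩ : Nonempty (Sylow p G) := inferInstance
  by_contra hc
  push Not at hc
  have h1 : ∀ x : commutator G, p ∣ cs((x : G)) → x ∈ center (commutator G) := by
    intro x hx
    rw [← cs_eq_one_iff]
    by_contra h1
    obtain ⟨r, hr, hd⟩ := Nat.exists_prime_and_dvd h1
    exact hc r hr (hd.trans (cs_dvd_card x)) x hx (hd.trans (cs_normal_dvd _ x))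
  set C := (centralizer ((P : Subgroup G) : Set G)).subgroupOf (commutator G) with hC
  have h2 : ∀ x : commutator G, x ∈ center (commutator G) ∨ ∃ n : commutator G, n * x * n⁻¹ ∈ C := by
    intro x
    by_cases hx : p ∣ cs((x : G))
    · exact Or.inl (h1 x hx)
    · obtain ⟨n, hn, h3⟩ := h.conj_in P (commutator G) (comm_sup_normal _) hx
      exact Or.inr ⟨⟨n, hn⟩, h3⟩
  have h3 : C ⊔ center (commutator G) = ⊤ := by
    refine eq_top_of_forall_conj_mem fun x => ?_
    rcases h2 x with h3 | ⟨n, h3⟩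
    · exact ⟨1, by simpa using mem_sup_right h3⟩
    · exact ⟨n, mem_sup_left h3⟩
  have h4 : C.Normal := by
    rw [← normalizer_eq_top_iff, eq_top_iff, ← h3]
    exact sup_le le_normalizer (center_le_normalizer _)
  obtain ⟨v, hv1, hv2⟩ := h.exists_der hv P (commutator G) (comm_sup_normal _)
  have h5 : ¬ C ≤ center (commutator G) := fun h5 => hG (by rw [← h3, sup_eq_right.2 h5])
  obtain ⟨c, hc1, hc2⟩ := SetLike.not_le_iff_exists.1 h5
  have hvz := h1 ⟨v, hv1⟩ hv2
  rcases h2 (c * ⟨v, hv1⟩) with h6 | ⟨n, h6⟩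
  · exact hc2 (by simpa using mul_mem h6 (inv_mem hvz))
  · have h7 : c * ⟨v, hv1⟩ ∈ C := by
      have := h4.conj_mem _ h6 n⁻¹
      simpa [mul_assoc] using this
    have h8 : (⟨v, hv1⟩ : commutator G) ∈ C := by simpa using mul_mem (inv_mem hc1) h7
    exact not_dvd_of_mem P h8 hv2

variable {q : ℕ} [hq : Fact q.Prime]

theorem Ab.exists_comm (h : Ab G p) (h' : Ab G q) (Q : Sylow q G) :
    ∃ P : Sylow p G, (P : Subgroup G) ≤ centralizer ((Q : Subgroup G) : Set G) := by
  have h1 := frat Q (commutator G) (comm_sup_normal _)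
  set H := normalizer ((Q : Subgroup G) : Set G)
  suffices ¬ p ∣ H.index by
    obtain ⟨P, hP⟩ := not_dvd_index_iff.1 this
    exact ⟨P, hP.trans (h' Q)⟩
  refine fun hd => h.not_dvd_comm (hd.trans ?_)
  have h2 : (commutator G).relIndex H = (commutator G).index := by
    rw [← relIndex_sup_right, h1, relIndex_top_right]
  have h3 := H.card_mul_index
  have h4 := (commutator G).card_mul_index
  have h5 := ((commutator G).subgroupOf H).card_mul_index
  rw [← relIndex, h2] at h5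
  have h6 : (commutator G).index ≠ 0 := index_ne_zero_of_finite
  refine ⟨Nat.card ((commutator G).subgroupOf H), mul_right_cancel₀ h6 ?_⟩
  rw [h4, ← h3, ← h5]
  ring

/-- If `p`, `q` are not adjacent, class sizes of `p`-elements are adjacent to `q`. -/
theorem Ab.nb (h : Ab G p) (h' : Ab G q) (hv : ∃ x : G, q ∣ cs(x))
    (hn : ∀ x : G, p ∣ cs(x) → ¬ q ∣ cs(x)) (P : Sylow p G) {y : G} (hy : y ∈ (P : Subgroup G)) :
    ∃ x : G, q ∣ cs(x) ∧ cs(y) ∣ cs(x) := by
  obtain ⟨Q⟩ : Nonempty (Sylow q G) := inferInstance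
  obtain ⟨v, hv1, hv2⟩ := h'.exists_der hv Q (commutator G) (comm_sup_normal _)
  obtain ⟨n, hn1, hn2⟩ := h.conj_in P (commutator G) (comm_sup_normal _) (fun hd => hn v hd hv2)
  have h1 : n * v * n⁻¹ ∈ commutator G := mul_mem (mul_mem hn1 hv1) (inv_mem hn1)
  have hc : Commute (n * v * n⁻¹) y := (hn2 y hy).symm
  obtain ⟨k, hk⟩ := (IsPGroup.iff_orderOf.1 P.isPGroup') ⟨y, hy⟩
  have hcop : (orderOf (n * v * n⁻¹)).Coprime (orderOf y) := by
    rw [← orderOf_coe] at hk
    rw [show orderOf y = p ^ k from hk]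
    refine Nat.Coprime.pow_right _ ((Nat.Prime.coprime_iff_not_dvd hp.out).2 fun hd => ?_).symm
    exact h.not_dvd_comm (hd.trans ((commutator G).orderOf_dvd_natCard h1))
  exact ⟨_, (cs_conj n v ▸ hv2).trans (cs_dvd_cs_mul_left hc hcop), cs_dvd_cs_mul_right hc hcop⟩

theorem sylow_le_ncl (P P' : Sylow p G) :
    (P' : Subgroup G) ≤ normalClosure ((P : Subgroup G) : Set G) := by
  obtain ⟨g, rfl⟩ := MulAction.exists_smul_eq G P P'
  intro y hy
  rw [Sylow.coe_subgroup_smul, mem_pointwise_smul_iff_inv_smul_mem] at hy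
  have := (normalClosure_normal (s := ((P : Subgroup G) : Set G))).conj_mem _
    (subset_normalClosure hy) g
  simpa [mul_assoc] using this

/-- If the normal closures of `P` and `Q` commute then `p` and `q` are adjacent. -/
theorem Ab.adj (h : Ab G p) (h' : Ab G q) (hv : ∃ x : G, p ∣ cs(x)) (hv' : ∃ x : G, q ∣ cs(x))
    (P : Sylow p G) (Q : Sylow q G)
    (hc : ∀ a ∈ normalClosure ((P : Subgroup G) : Set G),
      ∀ b ∈ normalClosure ((Q : Subgroup G) : Set G), a * b = b * a) :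
    ∃ x : G, p ∣ cs(x) ∧ q ∣ cs(x) := by
  obtain ⟨v, hv1, hv2⟩ := h.exists_der hv P (normalClosure ((P : Subgroup G) : Set G))
    (by rw [sup_eq_left.2 le_normalClosure]; infer_instance)
  obtain ⟨u, hu1, hu2⟩ := h'.exists_der hv' Q (normalClosure ((Q : Subgroup G) : Set G))
    (by rw [sup_eq_left.2 le_normalClosure]; infer_instance)
  refine ⟨v * u, ?_, ?_⟩
  · by_contra hd
    obtain ⟨R, hR⟩ := not_dvd_index_iff.1 hd
    refine not_dvd_index_iff.2 ⟨R, fun y hy => mem_cent.2 ?_⟩ hv2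
    have h1 := mem_cent.1 (hR hy)
    have h2 := hc y (sylow_le_ncl P R hy) u hu1
    apply mul_right_cancel (b := u)
    rw [mul_assoc, h1, mul_assoc, mul_assoc, h2]
  · by_contra hd
    obtain ⟨R, hR⟩ := not_dvd_index_iff.1 hd
    refine not_dvd_index_iff.2 ⟨R, fun y hy => mem_cent.2 ?_⟩ hu2
    have h1 := mem_cent.1 (hR hy)
    have h2 := hc v hv1 y (sylow_le_ncl Q R hy)
    apply mul_left_cancel (a := v)
    rw [← mul_assoc, h2, mul_assoc, h1, mul_assoc]

theorem ncl_comm {A B : Subgroup G}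
    (h : ∀ a ∈ A, ∀ b ∈ B, ∀ g k : G, Commute (g * a * g⁻¹) (k * b * k⁻¹)) :
    ∀ a ∈ normalClosure (A : Set G), ∀ b ∈ normalClosure (B : Set G), a * b = b * a := by
  have h1 : normalClosure (B : Set G) ≤ centralizer (normalClosure (A : Set G) : Set G) := by
    rw [normalClosure, normalClosure, centralizer_closure, closure_le]
    intro b hb a ha
    obtain ⟨a', ha', h1⟩ := Group.mem_conjugatesOfSet_iff.1 ha
    obtain ⟨b', hb', h2⟩ := Group.mem_conjugatesOfSet_iff.1 hb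
    obtain ⟨g, rfl⟩ := isConj_iff.1 h1
    obtain ⟨k, rfl⟩ := isConj_iff.1 h2
    exact h a' ha' b' hb' g k
  exact fun a ha b hb => h1 hb a ha

/-- Two non-adjacent vertices with `N = C` have a common neighbour. -/
theorem Ab.common (h : Ab G p) (h' : Ab G q) (hv : ∃ x : G, p ∣ cs(x)) (hv' : ∃ x : G, q ∣ cs(x))
    (hn : ∀ x : G, p ∣ cs(x) → ¬ q ∣ cs(x)) :
    ∃ r : ℕ, r.Prime ∧ r ≠ p ∧ r ≠ q ∧ (∃ x : G, p ∣ cs(x) ∧ r ∣ cs(x)) ∧
      ∃ x : G, q ∣ cs(x) ∧ r ∣ cs(x) := by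
  obtain ⟨Q⟩ : Nonempty (Sylow q G) := inferInstance
  obtain ⟨P, hP⟩ := h.exists_comm h' Q
  by_cases hc : ∀ y ∈ (P : Subgroup G), ∀ w ∈ (Q : Subgroup G), (cs(y)).Coprime cs(w)
  · obtain ⟨x, h1, h2⟩ := h.adj h' hv hv' P Q (ncl_comm fun a ha b hb g k => by
      obtain ⟨c, h1, h2⟩ := H6.exists_conj_pair (hc a ha b hb) g k
      rw [h1, h2]
      have : Commute a b := (hP ha b hb).symm
      simpa [mul_assoc] using this.map (MulAut.conj c))
    exact absurd h2 (hn x h1)
  · push Not at hc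
    obtain ⟨y, hy, w, hw, hc⟩ := hc
    obtain ⟨r, hr, h1, h2⟩ := Nat.Prime.not_coprime_iff_dvd.1 hc
    obtain ⟨x, h3, h4⟩ := h.nb h' hv' hn P hy
    obtain ⟨x', h5, h6⟩ := h'.nb h hv (fun x a b => hn x b a) Q hw
    exact ⟨r, hr, fun e => h.not_dvd_cs P hy (e ▸ h1), fun e => h'.not_dvd_cs Q hw (e ▸ h2),
      ⟨x', h5, h2.trans h6⟩, x, h3, h1.trans h4⟩

end Cfsg.Agent.CG
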